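import Cfsg.Agent.H41.Bs.CountGL
import Cfsg.Agent.H796.Bs.Comb
import Cfsg.Agent.H541.Bs.TiLin
import Cfsg.Agent.H46.Bs.GL
import Cfsg.Agent.H847.Bs.Stmts

/-!
# BS09: the elements of `GL(V)` acting irreducibly on a complement of a small submodule
-/

set_option autoImplicit false

namespace Cfsg.Agent.H41.Bs

/-- BS09 -/
theorem count_gl : Cfsg.Agent.H847.Bs.S09 := by
  obtain ⟨c, hc, K₀, h⟩ := count_gl_of Cfsg.Agent.H796.Bs.comb
    (fun F V _ _ _ _ _ D U h d K hd hK X Y hX hY => Cfsg.Agent.H541.Bs.rec_gl h hd hK hX hY)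
    (fun F V _ _ _ _ _ d hd h => Cfsg.Agent.H46.Bs.gl_irr F V h hd)
  exact ⟨c, hc, K₀, fun F V _ _ _ _ _ K hK hKV => h F V K hK hKV⟩

end Cfsg.Agent.H41.Bs
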